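import Mathlib.AlgebraicGeometry.Geometrically.Reduced
import Mathlib.AlgebraicGeometry.Morphisms.Flat
import Mathlib.RingTheory.Flat.FaithfullyFlat.Algebra
import Mathlib.RingTheory.TensorProduct.Basic
import Mathlib.LinearAlgebra.TensorProduct.Basis

universe u
open CategoryTheory CategoryTheory.Limits AlgebraicGeometry
open scoped TensorProduct

namespace Groth.Agent.FlatMor

/-- Reducedness descends along flat surjective morphisms. -/
theorem isReduced_of_flat_surjective {W Z : Scheme.{u}} (f : W ⟶ Z) [Flat f] [Surjective f]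
    [IsReduced W] : IsReduced Z := by
  haveI : ∀ z : Z, _root_.IsReduced (Z.presheaf.stalk z) := by
    intro z
    obtain ⟨x, rfl⟩ := f.surjective z
    refine isReduced_of_injective (f.stalkMap x).hom ?_
    algebraize [(f.stalkMap x).hom]
    have : Module.FaithfullyFlat (Z.presheaf.stalk (f x)) (W.presheaf.stalk x) :=
      @Module.FaithfullyFlat.of_flat_of_isLocalHom _ _ _ _ _ _ _
        (Flat.stalkMap f x) (f.toLRSHom.prop x)
    exact ‹RingHom.FaithfullyFlat _›.injective
  exact isReduced_of_isReduced_stalk Z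

theorem flat_surjective_spec_field_hom {K L : Type u} [Field K] [Field L] (φ : K →+* L) :
    Flat (Spec.map (CommRingCat.ofHom φ)) ∧ Surjective (Spec.map (CommRingCat.ofHom φ)) := by
  constructor
  · rw [HasRingHomProperty.Spec_iff (P := @Flat)]
    letI := φ.toAlgebra
    exact (inferInstance : Module.Flat K L)
  · exact ⟨fun y => ⟨IsLocalRing.closedPoint L,
      @Subsingleton.elim (PrimeSpectrum K) inferInstance _ _⟩⟩

/-- Geometric reducedness over a field descends from a field extension. -/
theorem geometricallyReduced_of_baseChange {k k' : Type u} [Field k] [Field k'] (φ : k →+* k')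
    {X X' : Scheme.{u}} {f : X ⟶ Spec (.of k)} {f' : X' ⟶ Spec (.of k')} {p : X' ⟶ X}
    (h : IsPullback p f' f (Spec.map (CommRingCat.ofHom φ))) [hf' : GeometricallyReduced f'] :
    GeometricallyReduced f := by
  refine ⟨geometrically_iff_of_commRing.2 fun K _ _ Z fst snd hZ => ?_⟩
  letI := φ.toAlgebra
  haveI : Nontrivial (k' ⊗[k] K) := TensorProduct.nontrivial_of_linearMap_injective_of_flat_left k k' K
    (Algebra.linearMap k K) (algebraMap k K).injective
  obtain ⟨m, hm⟩ := Ideal.exists_maximal (k' ⊗[k] K)
  letI := Ideal.Quotient.field m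
  let a : k' →+* (k' ⊗[k] K) ⧸ m := (Ideal.Quotient.mk m).comp Algebra.TensorProduct.includeLeftRingHom
  let b : K →+* (k' ⊗[k] K) ⧸ m :=
    (Ideal.Quotient.mk m).comp (Algebra.TensorProduct.includeRight : K →ₐ[k] k' ⊗[k] K).toRingHom
  have hab : a.comp φ = b.comp (algebraMap k K) := by
    ext c
    refine congrArg (Ideal.Quotient.mk m) ?_
    show (algebraMap k k' c) ⊗ₜ[k] (1 : K) = 1 ⊗ₜ[k] algebraMap k K c
    rw [Algebra.algebraMap_eq_smul_one, Algebra.algebraMap_eq_smul_one, TensorProduct.smul_tmul]
  haveI := (flat_surjective_spec_field_hom b).1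
  haveI := (flat_surjective_spec_field_hom b).2
  let W := pullback snd (Spec.map (CommRingCat.ofHom b))
  have hW : IsPullback (pullback.fst snd (Spec.map (CommRingCat.ofHom b)) ≫ fst)
      (pullback.snd snd (Spec.map (CommRingCat.ofHom b))) f
      (Spec.map (CommRingCat.ofHom a) ≫ Spec.map (CommRingCat.ofHom φ)) := by
    have := (IsPullback.of_hasPullback snd (Spec.map (CommRingCat.ofHom b))).paste_horiz hZ
    have e : Spec.map (CommRingCat.ofHom a) ≫ Spec.map (CommRingCat.ofHom φ) =
        Spec.map (CommRingCat.ofHom b) ≫ Spec.map (CommRingCat.ofHom (algebraMap k K)) := by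
      rw [← Spec.map_comp, ← Spec.map_comp, ← CommRingCat.ofHom_comp, ← CommRingCat.ofHom_comp, hab]
    rw [e]
    exact this
  let q : W ⟶ X' := h.lift (pullback.fst snd (Spec.map (CommRingCat.ofHom b)) ≫ fst)
      (pullback.snd snd (Spec.map (CommRingCat.ofHom b)) ≫ Spec.map (CommRingCat.ofHom a))
      (by rw [Category.assoc, Category.assoc]; simpa using hW.w)
  have hW' : IsPullback q (pullback.snd snd (Spec.map (CommRingCat.ofHom b))) f'
      (Spec.map (CommRingCat.ofHom a)) := by
    refine IsPullback.of_right ?_ (h.lift_snd _ _ _) h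
    rw [show q ≫ p = _ from h.lift_fst _ _ _]
    exact hW
  haveI : IsReduced W := hf'.geometrically_isReduced (Spec.map (CommRingCat.ofHom a)) _ _ hW'
  exact isReduced_of_flat_surjective (pullback.fst snd (Spec.map (CommRingCat.ofHom b)))

end Groth.Agent.FlatMor
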